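import Groth.Agent.PicGenFib.StablyFree
import Groth.Agent.SerreReg.Regular
import Groth.Agent.ValFP.Content
import Mathlib

/-!
# The Picard group of the generic fibre of a smooth-like local algebra over a valuation ring
-/

set_option autoImplicit false
set_option linter.style.haveILetI false

universe u

namespace Groth.Agent.PicGenFib

open IsLocalRing SerreReg UFDLib
open scoped nonZeroDivisors

variable (R A : Type u) [CommRing R] [IsDomain R] [ValuationRing R] [CommRing A] [Algebra R A]

/-- The maximal ideal of the valuation ring, extended. -/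
abbrev J : Ideal A := (maximalIdeal R).map (algebraMap R A)

/-- No torsion over the valuation ring. -/
def TF (M : Type u) [AddCommGroup M] [Module A M] : Prop :=
  ∀ t : R, t ≠ 0 → ∀ m : M, algebraMap R A t • m = 0 → m = 0

variable {R A}

section Elements

variable {M : Type u} [AddCommGroup M] [Module A M]

theorem combine {t t' : R} {y y' : M} (ht : t ∈ maximalIdeal R) (ht' : t' ∈ maximalIdeal R) :
    ∃ s ∈ maximalIdeal R, ∃ z : M, algebraMap R A s • z = algebraMap R A t • y + algebraMap R A t' • y' := by
  rcases ValuationRing.dvd_total t t' with ⟨c, rfl⟩ | ⟨c, rfl⟩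
  · exact ⟨t, ht, y + algebraMap R A c • y', by rw [smul_add, smul_smul, map_mul]⟩
  · exact ⟨t', ht', algebraMap R A c • y + y', by rw [smul_add, smul_smul, map_mul]⟩

theorem exists_mul_of_mem_J {a : A} (ha : a ∈ J R A) :
    ∃ t ∈ maximalIdeal R, ∃ b : A, algebraMap R A t * b = a := by
  induction ha using Submodule.span_induction with
  | mem x hx =>
    obtain ⟨t, ht, rfl⟩ := hx
    exact ⟨t, ht, 1, mul_one _⟩
  | zero => exact ⟨0, zero_mem _, 0, by simp⟩
  | add x y _ _ hx hy =>
    obtain ⟨t, ht, b, rfl⟩ := hx
    obtain ⟨t', ht', b', rfl⟩ := hy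
    obtain ⟨s, hs, z, hz⟩ := combine (A := A) (M := A) (y := b) (y' := b') ht ht'
    exact ⟨s, hs, z, hz⟩
  | smul c x _ hx =>
    obtain ⟨t, ht, b, rfl⟩ := hx
    exact ⟨t, ht, c * b, by rw [smul_eq_mul]; ring⟩

theorem exists_smul_of_mem {x : M} (hx : x ∈ J R A • (⊤ : Submodule A M)) :
    ∃ t ∈ maximalIdeal R, ∃ y : M, algebraMap R A t • y = x := by
  refine Submodule.smul_induction_on hx ?_ ?_
  · intro a ha m _
    obtain ⟨t, ht, b, rfl⟩ := exists_mul_of_mem_J ha
    exact ⟨t, ht, b • m, smul_smul _ _ _⟩
  · rintro _ _ ⟨t, ht, y, rfl⟩ ⟨t', ht', y', rfl⟩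
    exact combine ht ht'

end Elements

section Reduction

variable {M : Type u} [AddCommGroup M] [Module A M] {r : ℕ} (f : (Fin r → A) →ₗ[A] M)

/-- The reduction of a presentation. -/
noncomputable def fbar : (Fin r → A ⧸ J R A) →ₗ[A ⧸ J R A] M ⧸ J R A • (⊤ : Submodule A M) :=
  Fintype.linearCombination (A ⧸ J R A) fun i => Submodule.mkQ _ (f (Pi.single i 1))

theorem fbar_mk (x : Fin r → A) :
    fbar (R := R) f (fun i => Ideal.Quotient.mk (J R A) (x i)) = Submodule.mkQ _ (f x) := by
  classical
  conv_rhs => rw [pi_eq_sum_univ' x]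
  simp only [fbar, Fintype.linearCombination_apply, map_sum, map_smul]
  exact Finset.sum_congr rfl fun i _ => algebraMap_smul (A ⧸ J R A) (x i) _

theorem exists_lift (v : Fin r → A ⧸ J R A) :
    ∃ x : Fin r → A, (fun i => Ideal.Quotient.mk (J R A) (x i)) = v := by
  choose x hx using fun i => Ideal.Quotient.mk_surjective (v i)
  exact ⟨x, funext hx⟩

theorem fbar_surjective (hf : Function.Surjective f) : Function.Surjective (fbar (R := R) f) := by
  intro m
  obtain ⟨m, rfl⟩ := Submodule.mkQ_surjective _ m
  obtain ⟨x, rfl⟩ := hf m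
  exact ⟨_, fbar_mk f x⟩

/-- Reduction commutes with kernels, as the target has no torsion. -/
theorem ker_fbar_equiv (hM : TF R A M) (hf : Function.Surjective f) :
    Nonempty ((LinearMap.ker f ⧸ J R A • (⊤ : Submodule A (LinearMap.ker f))) ≃ₗ[A ⧸ J R A]
      LinearMap.ker (fbar (R := R) f)) := by
  classical
  let q : LinearMap.ker f →ₗ[A] (LinearMap.ker (fbar (R := R) f)).restrictScalars A :=
    LinearMap.codRestrict _
      (((Ideal.Quotient.mkₐ A (J R A)).toLinearMap.compLeft (Fin r)).comp (LinearMap.ker f).subtype)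
      (fun n => by
        show fbar (R := R) f (fun i => Ideal.Quotient.mk (J R A) ((n : Fin r → A) i)) = 0
        rw [fbar_mk, n.2, map_zero])
  have hq : Function.Surjective q := by
    rintro ⟨v, hv⟩
    obtain ⟨x, rfl⟩ := exists_lift (R := R) v
    have h1 : Submodule.mkQ (J R A • (⊤ : Submodule A M)) (f x) = 0 := (fbar_mk f x).symm.trans hv
    rw [Submodule.mkQ_apply, Submodule.Quotient.mk_eq_zero] at h1
    obtain ⟨t, ht, y, hy⟩ := exists_smul_of_mem h1
    obtain ⟨w, rfl⟩ := hf y
    refine ⟨⟨x - algebraMap R A t • w, ?_⟩, Subtype.ext (funext fun i => ?_)⟩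
    · rw [LinearMap.mem_ker, map_sub, map_smul, hy, sub_self]
    · show Ideal.Quotient.mk (J R A) (x i - algebraMap R A t * w i) = Ideal.Quotient.mk (J R A) (x i)
      rw [map_sub, sub_eq_self, Ideal.Quotient.eq_zero_iff_mem]
      exact Ideal.mul_mem_right _ _ (Ideal.mem_map_of_mem _ ht)
  have hker : LinearMap.ker q = J R A • (⊤ : Submodule A (LinearMap.ker f)) := by
    refine le_antisymm ?_ ?_
    · intro n hn
      have hmem : (n : Fin r → A) ∈ J R A • (⊤ : Submodule A (Fin r → A)) := by
        rw [pi_eq_sum_univ' (n : Fin r → A)]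
        refine Submodule.sum_mem _ fun i _ => Submodule.smul_mem_smul ?_ trivial
        exact Ideal.Quotient.eq_zero_iff_mem.1 (congrFun (congrArg Subtype.val hn) i)
      obtain ⟨t, ht, y, hy⟩ := exists_smul_of_mem hmem
      by_cases h0 : t = 0
      · have : n = 0 := Subtype.ext (by rw [← hy, h0, map_zero, zero_smul]; rfl)
        rw [this]
        exact zero_mem _
      · have hy0 : f y = 0 := hM t h0 _ (by rw [← map_smul, hy]; exact n.2)
        have : n = algebraMap R A t • (⟨y, hy0⟩ : LinearMap.ker f) := Subtype.ext hy.symm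
        rw [this]
        exact Submodule.smul_mem_smul (Ideal.mem_map_of_mem _ ht) trivial
    · rw [Submodule.smul_le]
      intro a ha n _
      refine LinearMap.mem_ker.2 (Subtype.ext (funext fun i => ?_))
      show Ideal.Quotient.mk (J R A) (a * (n : Fin r → A) i) = 0
      exact Ideal.Quotient.eq_zero_iff_mem.2 (Ideal.mul_mem_right _ _ ha)
  let e := (Submodule.quotEquivOfEq _ _ hker.symm).trans (q.quotKerEquivOfSurjective hq)
  refine ⟨e.toAddEquiv.toLinearEquiv ?_⟩
  intro c z
  obtain ⟨a, rfl⟩ := Ideal.Quotient.mk_surjective c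
  have h1 : Ideal.Quotient.mk (J R A) a • z = a • z := algebraMap_smul (A ⧸ J R A) a z
  rw [h1]
  refine (e.map_smul a z).trans (Subtype.ext ?_)
  exact (algebraMap_smul (A ⧸ J R A) a ((e z : _) : Fin r → A ⧸ J R A)).symm

end Reduction

section Local

variable [IsLocalRing A] [IsLocalHom (algebraMap R A)]

theorem J_le : J R A ≤ maximalIdeal A := by
  rw [Ideal.map_le_iff_le_comap]
  intro t ht hu
  exact ht (isUnit_of_map_unit (algebraMap R A) t hu)

instance : Nontrivial (A ⧸ J R A) :=
  Ideal.Quotient.nontrivial_iff.2 (ne_top_of_le_ne_top (maximalIdeal.isMaximal A).ne_top J_le)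

instance : IsLocalRing (A ⧸ J R A) :=
  IsLocalRing.of_surjective' (Ideal.Quotient.mk _) Ideal.Quotient.mk_surjective

theorem finitePresentation_of_tf [Algebra.EssFiniteType R A] (M : Type u) [AddCommGroup M]
    [Module A M] [Module.Finite A M] (hM : TF R A M) : Module.FinitePresentation A M := by
  letI : Module R M := Module.compHom M (algebraMap R A)
  haveI : IsScalarTower R A M := IsScalarTower.of_algebraMap_smul fun _ _ => rfl
  haveI : Module.Flat R M := by
    rw [Module.Flat.flat_iff_torsion_eq_bot_of_isBezout, eq_bot_iff]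
    rintro m ⟨⟨t, ht⟩, h⟩
    exact hM t (nonZeroDivisors.ne_zero ht) m h
  exact Groth.Agent.ValFP.finitePresentation_local R A M

variable [Algebra.EssFiniteType R A]

theorem free_of_reduction (M : Type u) [AddCommGroup M] [Module A M] [Module.Finite A M]
    (hM : TF R A M) (hfree : Module.Projective (A ⧸ J R A) (M ⧸ J R A • (⊤ : Submodule A M))) :
    Module.Free A M := by
  classical
  haveI := finitePresentation_of_tf (R := R) M hM
  haveI : Module.Finite (A ⧸ J R A) (M ⧸ J R A • (⊤ : Submodule A M)) :=
    Module.Finite.of_restrictScalars_finite A _ _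
  haveI : Module.Free (A ⧸ J R A) (M ⧸ J R A • (⊤ : Submodule A M)) :=
    Module.free_of_flat_of_isLocalRing
  let b := Module.finBasis (A ⧸ J R A) (M ⧸ J R A • (⊤ : Submodule A M))
  choose v hv using fun i => Submodule.mkQ_surjective (J R A • (⊤ : Submodule A M)) (b i)
  let f := Fintype.linearCombination A v
  have hfb : fbar (R := R) f = b.equivFun.symm.toLinearMap := by
    refine LinearMap.ext fun x => ?_
    simp [fbar, f, Fintype.linearCombination_apply, Module.Basis.equivFun_symm_apply, hv]
  have hjac : J R A ≤ Ideal.jacobson ⊥ :=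
    J_le.trans (IsLocalRing.jacobson_eq_maximalIdeal ⊥ bot_ne_top).ge
  have hf : Function.Surjective f := by
    rw [← LinearMap.range_eq_top, eq_top_iff]
    refine Submodule.le_of_le_smul_of_le_jacobson_bot Module.Finite.fg_top hjac ?_
    intro m _
    obtain ⟨x, hx⟩ := b.equivFun.symm.surjective (Submodule.mkQ _ m)
    obtain ⟨x, rfl⟩ := exists_lift (R := R) x
    rw [← LinearEquiv.coe_toLinearMap, ← hfb, fbar_mk, Submodule.mkQ_apply, Submodule.mkQ_apply,
      Submodule.Quotient.eq] at hx
    exact Submodule.mem_sup.2 ⟨f x, ⟨x, rfl⟩, m - f x,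
      by simpa [sub_eq_add_neg, add_comm] using neg_mem hx, by abel⟩
  obtain ⟨e⟩ := ker_fbar_equiv f hM hf
  have hK : LinearMap.ker f = ⊥ := by
    refine Submodule.eq_bot_of_le_smul_of_le_jacobson_bot (J R A) _
      (Module.FinitePresentation.fg_ker f hf) ?_ hjac
    intro x hx
    have h0 : Submodule.mkQ (J R A • (⊤ : Submodule A (LinearMap.ker f))) ⟨x, hx⟩ = 0 := by
      apply e.injective
      rw [map_zero]
      have hb : LinearMap.ker (fbar (R := R) f) = ⊥ := by rw [hfb]; exact b.equivFun.symm.ker
      exact Subtype.ext ((Submodule.eq_bot_iff _).1 hb _ (e _).2)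
    rw [Submodule.mkQ_apply, Submodule.Quotient.mk_eq_zero] at h0
    have := Submodule.mem_map_of_mem (f := (LinearMap.ker f).subtype) h0
    rwa [Submodule.map_smul'', Submodule.map_subtype_top] at this
  exact Module.Free.of_equiv (LinearEquiv.ofBijective f ⟨LinearMap.ker_eq_bot.1 hK, hf⟩)

/-- Finite projective dimension on the closed fibre gives stable freeness on the generic fibre. -/
theorem sf_localized (hA : TF R A A) (S : Submonoid A) : ∀ (d : ℕ) (M : Type u) [AddCommGroup M] [Module A M]
    [Module.Finite A M], TF R A M → PdLE (A ⧸ J R A) (M ⧸ J R A • (⊤ : Submodule A M)) d →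
      Module.Projective (Localization S) (LocalizedModule S M) →
      SF (Localization S) (LocalizedModule S M) := by
  intro d
  induction d with
  | zero =>
    intro M _ _ _ hM hd _
    haveI : Module.Free A M := free_of_reduction M hM ((pdLE_zero_iff _).1 hd)
    let B := (Module.finBasis A M).ofIsLocalizedModule (Localization S) S (LocalizedModule.mkLinearMap S M)
    exact ⟨0, _, ⟨LinearEquiv.prodUnique.trans B.equivFun⟩⟩
  | succ d ih =>
    intro M _ _ _ hM hd hproj
    haveI := finitePresentation_of_tf (R := R) M hM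
    obtain ⟨r, f, hf⟩ := Module.Finite.exists_fin' A M
    haveI : Module.Finite A (LinearMap.ker f) :=
      Module.Finite.iff_fg.2 (Module.FinitePresentation.fg_ker f hf)
    obtain ⟨ek⟩ := ker_fbar_equiv f hM hf
    have hK : PdLE (A ⧸ J R A) (LinearMap.ker f ⧸ J R A • (⊤ : Submodule A (LinearMap.ker f))) d :=
      pdLE_of_equiv ek.symm ((pdLE_succ_iff _ (fbar_surjective f hf) d).1 hd)
    let i := LocalizedModule.map S (LinearMap.ker f).subtype
    let g := LocalizedModule.map S f
    have hg : Function.Surjective g := LocalizedModule.map_surjective S f hf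
    have hi : Function.Injective i := LocalizedModule.map_injective S _ (Submodule.injective_subtype _)
    have hex : Function.Exact i g := LocalizedModule.map_exact S _ _ (LinearMap.exact_subtype_ker_map f)
    haveI := hproj
    obtain ⟨l, hl⟩ := Module.projective_lifting_property g LinearMap.id hg
    obtain ⟨e, he, -⟩ := @Function.Exact.splitSurjectiveEquiv (Localization S)
      (LocalizedModule S (LinearMap.ker f)) (LocalizedModule S (Fin r → A)) (LocalizedModule S M)
      _ _ _ _ _ _ _ i g hex hi ⟨l, hl⟩
    let B := (Pi.basisFun A (Fin r)).ofIsLocalizedModule (Localization S) S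
      (LocalizedModule.mkLinearMap S (Fin r → A))
    haveI : Module.Free (Localization S) (LocalizedModule S (Fin r → A)) := .of_basis B
    haveI : Module.Projective (Localization S) (LocalizedModule S (LinearMap.ker f)) := by
      refine Module.Projective.of_split i ((LinearMap.fst _ _ _).comp e.toLinearMap) ?_
      apply LinearMap.ext
      intro k
      rw [LinearMap.comp_apply, LinearMap.comp_apply, he, LinearMap.comp_apply]
      simp
    have hTFK : TF R A (LinearMap.ker f) := fun t ht n h =>
      Subtype.ext (funext fun j => hA t ht _ (congrFun (congrArg Subtype.val h) j))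
    obtain ⟨a, b, ⟨eK⟩⟩ := ih (LinearMap.ker f) hTFK hK inferInstance
    refine ⟨b, r + a, ⟨?_⟩⟩
    exact (LinearEquiv.prodCongr (LinearEquiv.refl _ _) eK.symm).trans
      ((LinearEquiv.prodAssoc _ _ _ _).symm.trans
        ((LinearEquiv.prodCongr ((LinearEquiv.prodComm _ _ _).trans (e.symm.trans B.equivFun))
          (LinearEquiv.refl _ _)).trans
            ((LinearEquiv.sumArrowLequivProdArrow (Fin r) (Fin a) (Localization S) (Localization S)).symm.trans
              (LinearEquiv.funCongrLeft _ _ finSumFinEquiv.symm))))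

/-- The Picard group of the generic fibre is trivial. -/
theorem subsingleton_pic (hA : TF R A A) [IsRegularLocalRing (A ⧸ J R A)] :
    Subsingleton (CommRing.Pic (Localization (Algebra.algebraMapSubmonoid A R⁰))) := by
  classical
  set S := Algebra.algebraMapSubmonoid A R⁰ with hS
  rw [CommRing.Pic.subsingleton_iff]
  intro L _ _ _
  letI : Module A L := Module.compHom L (algebraMap A (Localization S))
  haveI : IsScalarTower A (Localization S) L := IsScalarTower.of_algebraMap_smul fun _ _ => rfl
  have hunit : ∀ s : S, ∀ x y : L, (s : A) • x = (s : A) • y → x = y := fun s x y h =>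
    (IsLocalization.map_units (Localization S) s).smul_left_cancel.1
      (by rwa [algebraMap_smul, algebraMap_smul])
  obtain ⟨T, hT⟩ := Module.Finite.fg_top (R := Localization S) (M := L)
  let M : Submodule A L := Submodule.span A (T : Set L)
  haveI : Module.Finite A M := Module.Finite.span_of_finite A T.finite_toSet
  have hTF : TF R A M := fun t ht m h => Subtype.ext (hunit
    ⟨_, Algebra.mem_algebraMapSubmonoid_of_mem ⟨t, mem_nonZeroDivisors_of_ne_zero ht⟩⟩ _ 0
    ((congrArg Subtype.val h).trans (smul_zero _).symm))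
  have hsurj : ∀ x : L, ∃ s : S, (s : A) • x ∈ M := by
    intro x
    have hx : x ∈ Submodule.span (Localization S) (T : Set L) := by rw [hT]; trivial
    induction hx using Submodule.span_induction with
    | mem x h => exact ⟨1, by rw [OneMemClass.coe_one, one_smul]; exact Submodule.subset_span h⟩
    | zero => exact ⟨1, by rw [smul_zero]; exact zero_mem _⟩
    | add x y _ _ hx hy =>
      obtain ⟨s, hs⟩ := hx
      obtain ⟨t, ht⟩ := hy
      refine ⟨s * t, ?_⟩
      rw [Submonoid.coe_mul, smul_add, mul_smul, mul_smul, smul_comm (s : A) (t : A) x]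
      exact add_mem (M.smul_mem _ hs) (M.smul_mem _ ht)
    | smul c x _ hx =>
      obtain ⟨s, hs⟩ := hx
      obtain ⟨a, u, hau⟩ := IsLocalization.exists_mk'_eq S c
      refine ⟨u * s, ?_⟩
      have h1 : (u : A) • c • x = a • x := by
        rw [← algebraMap_smul (Localization S) (u : A) (c • x), smul_smul, ← hau, mul_comm,
          IsLocalization.mk'_spec, algebraMap_smul]
      rw [Submonoid.coe_mul, mul_comm, mul_smul, h1, smul_comm]
      exact M.smul_mem _ hs
  haveI : IsLocalizedModule S M.subtype := by
    refine (isLocalizedModule_iff S M.subtype).2 ⟨fun s => ?_, fun y => ?_, fun {m n} h => ?_⟩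
    · rw [Module.End.isUnit_iff]
      refine ⟨fun x y h => hunit s x y h, fun y => ?_⟩
      obtain ⟨v, hv⟩ := IsLocalization.map_units (Localization S) s
      refine ⟨(↑v⁻¹ : Localization S) • y, ?_⟩
      show (s : A) • ((↑v⁻¹ : Localization S) • y) = y
      rw [← algebraMap_smul (Localization S) (s : A) ((↑v⁻¹ : Localization S) • y), smul_smul, ← hv,
        Units.mul_inv, one_smul]
    · obtain ⟨s, hs⟩ := hsurj y
      exact ⟨(⟨_, hs⟩, s), rfl⟩
    · exact ⟨1, by rw [Subtype.ext h]⟩
  let e : LocalizedModule S M ≃ₗ[Localization S] L :=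
    LinearEquiv.extendScalarsOfIsLocalization S (Localization S) (IsLocalizedModule.iso S M.subtype)
  haveI : Module.Projective (Localization S) (LocalizedModule S M) := Module.Projective.of_equiv e.symm
  haveI : Module.Finite (A ⧸ J R A) (M ⧸ J R A • (⊤ : Submodule A M)) :=
    Module.Finite.of_restrictScalars_finite A _ _
  have hd : PdLE (A ⧸ J R A) (M ⧸ J R A • (⊤ : Submodule A M))
      (maximalIdeal (A ⧸ J R A)).spanFinrank :=
    pdLE_finite _ (A ⧸ J R A) IsRegularLocalRing.spanFinrank_maximalIdeal.symm _
  obtain ⟨a, b, ⟨eK⟩⟩ := sf_localized hA S _ M hTF hd inferInstance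
  exact free_of_sf L ⟨a, b, ⟨(LinearEquiv.prodCongr e.symm (LinearEquiv.refl _ _)).trans eK⟩⟩

end Local

end Groth.Agent.PicGenFib
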