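import Groth.Agent.UFDLib.StablyFree
import Mathlib

/-!
# Stably free invertible modules are free
-/

set_option autoImplicit false
set_option linter.style.haveILetI false

universe u

namespace Groth.Agent.PicGenFib

open TensorProduct

theorem rank_eq {R : Type u} [CommRing R] [Nontrivial R] {M : Type u} [AddCommGroup M] [Module R M]
    [Module.Invertible R M] {a b : ℕ} (e : (M × (Fin a → R)) ≃ₗ[R] (Fin b → R)) : b = a + 1 := by
  obtain ⟨p, hp⟩ := Ideal.exists_maximal R
  letI := Ideal.Quotient.field p
  have e1 : (((R ⧸ p) ⊗[R] M) × ((R ⧸ p) ⊗[R] (Fin a → R))) ≃ₗ[R ⧸ p] (R ⧸ p) ⊗[R] (Fin b → R) :=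
    (TensorProduct.prodRight R (R ⧸ p) (R ⧸ p) M (Fin a → R)).symm.trans
      (LinearEquiv.baseChange R (R ⧸ p) (M × (Fin a → R)) (Fin b → R) e)
  have h := e1.finrank_eq
  have hM : Module.finrank (R ⧸ p) ((R ⧸ p) ⊗[R] M) = 1 := Module.Invertible.finrank_eq_one _ _
  rw [Module.finrank_prod, hM, Module.finrank_baseChange, Module.finrank_baseChange,
    Module.finrank_fin_fun, Module.finrank_fin_fun] at h
  omega

/-- A stably free invertible module is free. -/
theorem free_of_sf {R : Type u} [CommRing R] (M : Type u) [AddCommGroup M] [Module R M]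
    [Module.Invertible R M] (h : UFDLib.SF R M) : Module.Free R M := by
  classical
  rcases subsingleton_or_nontrivial R with hR | hR
  · exact inferInstance
  obtain ⟨a, b, ⟨e⟩⟩ := h
  obtain rfl := rank_eq e
  let u : Fin (a + 1) → M := fun l => (e.symm (Pi.single l 1)).1
  let B : Matrix (Fin a) (Fin (a + 1)) R := fun r l => (e.symm (Pi.single l 1)).2 r
  let z : M := ∑ l : Fin (a + 1), ((-1) ^ (l : ℕ) * (B.submatrix id l.succAbove).det) • u l
  let Mt : M → Matrix (Fin (a + 1)) (Fin (a + 1)) R := fun m l c =>
    Fin.cases (e (m, 0) l) (fun c' => e (0, Pi.single c' 1) l) c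
  have key : ∀ (ι : Module.Dual R M) (m : M), ι m = (Mt m).det * ι z := by
    intro ι m
    let N : Matrix (Fin (a + 1)) (Fin (a + 1)) R := fun r l =>
      Fin.cases (ι (u l)) (fun r' => B r' l) r
    have hdetN : N.det = ι z := by
      rw [Matrix.det_succ_row_zero]
      simp only [z, map_sum, map_smul, smul_eq_mul]
      refine Finset.sum_congr rfl fun l _ => ?_
      have : N.submatrix Fin.succ l.succAbove = B.submatrix id l.succAbove := by
        ext i j
        rfl
      rw [this]
      simp only [N, Fin.cases_zero]
      ring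
    have hNM : N * Mt m = Matrix.diagonal (fun r => Fin.cases (ι m) (fun _ => 1) r) := by
      ext r c
      have hk : ∀ v : Fin (a + 1) → R, ∑ l, N r l * v l =
          Fin.cases (ι (e.symm v).1) (fun r' => (e.symm v).2 r') r := by
        intro v
        have hv : e.symm v = ∑ l, v l • e.symm (Pi.single l 1) := by
          conv_lhs => rw [pi_eq_sum_univ' v]
          simp [map_sum]
        refine Fin.cases ?_ (fun r' => ?_) r
        · simp only [N, u, Fin.cases_zero]
          rw [hv, Prod.fst_sum, map_sum]
          exact Finset.sum_congr rfl fun l _ => by rw [Prod.smul_fst, map_smul, smul_eq_mul, mul_comm]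
        · simp only [N, B, Fin.cases_succ]
          rw [hv, Prod.snd_sum, Finset.sum_apply]
          exact Finset.sum_congr rfl fun l _ => by rw [Prod.smul_snd, Pi.smul_apply, smul_eq_mul, mul_comm]
      rw [Matrix.mul_apply, hk]
      refine Fin.cases ?_ (fun c' => ?_) c
      · simp only [Mt, Fin.cases_zero]
        rw [LinearEquiv.symm_apply_apply]
        refine Fin.cases ?_ (fun r' => ?_) r
        · simp
        · simp [Fin.succ_ne_zero]
      · simp only [Mt, Fin.cases_succ]
        rw [LinearEquiv.symm_apply_apply]
        refine Fin.cases ?_ (fun r' => ?_) r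
        · simp [(Fin.succ_ne_zero c').symm]
        · simp [Matrix.diagonal_apply, Pi.single_apply, eq_comm]
    have hdet := congrArg Matrix.det hNM
    rw [Matrix.det_mul, Matrix.det_diagonal, Fin.prod_univ_succ] at hdet
    simp only [Fin.cases_zero, Fin.cases_succ, Finset.prod_const_one, mul_one] at hdet
    rw [← hdet, hdetN, mul_comm]
  have hz : Function.Surjective (LinearMap.toSpanSingleton R M z) := by
    intro m
    refine ⟨(Mt m).det, ?_⟩
    refine (sub_eq_zero.1 ?_).symm
    rw [← Module.forall_dual_apply_eq_zero_iff R]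
    intro ι
    rw [map_sub, LinearMap.toSpanSingleton_apply, map_smul, smul_eq_mul, ← key ι m, sub_self]
  exact Module.Free.of_equiv (LinearEquiv.ofBijective _ (Module.Invertible.bijective_of_surjective hz))

end Groth.Agent.PicGenFib
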